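import Groth.Agent.CubicPfaff.TPoints
import Mathlib.FieldTheory.IsAlgClosed.AlgebraicClosure

/-!
# Five rational points in general position on a cubic surface
-/

set_option autoImplicit false
set_option linter.unusedSectionVars false

universe u

open MvPolynomial Module CubicPfaff

namespace CubicFive

variable {k : Type u} [Field k] [CharZero k] [Infinite k] {F : MvPolynomial (Fin 4) k} {a : Fin 4 → k}

local notation "KK" => AlgebraicClosure k
local notation "FK" => MvPolynomial.map (algebraMap k (AlgebraicClosure k)) F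

theorem eval_pderiv_map (a : Fin 4 → k) (i : Fin 4) :
    eval (fun m => algebraMap k KK (a m)) (pderiv i FK) = algebraMap k KK (eval a (pderiv i F)) := by
  rw [pderiv_map, eval_map]
  exact (MvPolynomial.eval₂_comp (algebraMap k KK) a (pderiv i F)).symm

theorem map_lform {l : (Fin 4 → k) →ₗ[k] k} (hl : ∀ x, l x = polar F a x) :
    MvPolynomial.map (algebraMap k KK) (lform l) =
      ∑ i : Fin 4, C (eval (fun m => algebraMap k KK (a m)) (pderiv i FK)) * X i := by
  haveI : Infinite k := inferInstance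
  have : lform l = ∑ i : Fin 4, C (eval a (pderiv i F)) * X i :=
    MvPolynomial.funext fun x => by rw [eval_lform, hl, polar_eq_sum]
  rw [this, map_sum]
  simp [eval_pderiv_map]

variable (hF : F.IsHomogeneous 3)
include hF

theorem phi_polar (l : (Fin 4 → k) →ₗ[k] k) (hl : ∀ x, l x = polar F a x) (hFa : eval a F = 0) {x : Fin 4 → k} (hx : l x = 0) :
    polar F (phi F a x) a = 0 → phi F a x ∈ Submodule.span k ({a} : Set (Fin 4 → k)) := by
  intro h
  have e : phi F a x = fun m => polar F x a * x m + (-eval x F) * a m := by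
    funext m; simp [phi]; ring
  have hsc : polar F a (fun m => polar F x a * x m) = polar F x a * polar F a x := by
    simp [polar, Finset.mul_sum, mul_assoc]
  rw [e, polar_shift hF (fun m => polar F x a * x m) a, polar_scale_left hF, hsc, ← hl, hx, aeval_k, hFa] at h
  have hq : polar F x a = 0 := by
    have : polar F x a ^ 3 = 0 := by linear_combination h
    simpa using this
  rw [phi, hq, zero_smul, zero_sub, ← neg_smul]
  exact Submodule.smul_mem _ _ (Submodule.mem_span_singleton_self a)

theorem avoid_smooth (ha : a ≠ 0) (hFa : eval a F = 0) (l : (Fin 4 → k) →ₗ[k] k) (hl : ∀ x, l x = polar F a x)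
    (hl0 : l ≠ 0)
    (hT : ¬ IsT (MvPolynomial.map (algebraMap k (AlgebraicClosure k)) F) (fun m => algebraMap k (AlgebraicClosure k) (a m)))
    (Ws₀ : List (Submodule k (Fin 4 → k))) (hWs₀ : ∀ W ∈ Ws₀, ¬ LinearMap.ker l ≤ W) :
    ∃ P, eval P F = 0 ∧ l P = 0 ∧ (polar F P a = 0 → P ∈ Submodule.span k ({a} : Set (Fin 4 → k))) ∧ ∀ W ∈ Ws₀, P ∉ W := by
  replace hT : ¬ ∃ L₁ L₂ L₃ : MvPolynomial (Fin 4) (AlgebraicClosure k), L₁.IsHomogeneous 1 ∧ L₂.IsHomogeneous 1 ∧ L₃.IsHomogeneous 1 ∧
      MvPolynomial.map (algebraMap k (AlgebraicClosure k)) F - L₁ * L₂ * L₃ ∈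
        Ideal.span {MvPolynomial.map (algebraMap k (AlgebraicClosure k)) (lform l)} := by
    rw [map_lform hl]
    exact hT
  set Q := ∑ i, C (a i) * pderiv i F with hQdef
  have hQeval : ∀ x, eval x Q = polar F x a := fun x => by simp [hQdef, polar, aeval_k]
  obtain ⟨x₀, hx₀⟩ : ∃ x, l x ≠ 0 := by
    by_contra h; push Not at h; exact hl0 (LinearMap.ext h)
  let b := (l x₀)⁻¹ • x₀
  have hb : l b = 1 := by simp [b, hx₀]
  have hla : l a = 0 := by rw [hl, polar_self hF, aeval_k, hFa, mul_zero]
  -- a basis adapted to the flag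
  have hker : Module.finrank k (LinearMap.ker l) = 3 := by
    have h1 := LinearMap.finrank_range_add_finrank_ker l
    rw [LinearMap.range_eq_top.2 (LinearMap.surjective hl0), finrank_top, Module.finrank_self, Module.finrank_fin_fun] at h1
    omega
  obtain ⟨h₁, hh₁, hh₁'⟩ := SetLike.not_le_iff_exists.1 (not_le_span ![a] (LinearMap.ker l) (by omega))
  obtain ⟨h₂, hh₂, hh₂'⟩ := SetLike.not_le_iff_exists.1 (not_le_span ![a, h₁] (LinearMap.ker l) (by omega))
  have indA : LinearIndependent k (Fin.snoc (Fin.snoc (Fin.snoc (![a] : Fin 1 → Fin 4 → k) h₁) h₂) b : Fin 4 → Fin 4 → k) := by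
    refine linearIndependent_finSnoc.2 ⟨linearIndependent_finSnoc.2 ⟨linearIndependent_finSnoc.2 ⟨?_, hh₁'⟩, ?_⟩, ?_⟩
    · exact linearIndependent_unique_iff.2 (by simpa using ha)
    · intro hm
      refine hh₂' (Submodule.span_mono ?_ hm)
      rintro _ ⟨i, rfl⟩
      fin_cases i <;> simp [Fin.snoc]
    · intro hmem
      have hsub : Submodule.span k (Set.range (Fin.snoc (Fin.snoc (![a] : Fin 1 → Fin 4 → k) h₁) h₂ : Fin 3 → Fin 4 → k)) ≤ LinearMap.ker l := by
        rw [Submodule.span_le]
        rintro _ ⟨i, rfl⟩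
        fin_cases i
        · exact hla
        · exact hh₁
        · exact hh₂
      have := hsub hmem
      rw [LinearMap.mem_ker, hb] at this
      exact one_ne_zero this
  let bA : Module.Basis (Fin 4) k (Fin 4 → k) := basisOfLinearIndependentOfCardEqFinrank indA (by simp)
  let β := bA.coord 1
  let γ := bA.coord 2
  have hdec : ∀ x, proj l b x = fun m => (β x * h₁ m + γ x * h₂ m) + bA.coord 0 x * a m := by
    intro x
    have hx := bA.sum_repr x
    rw [Fin.sum_univ_four] at hx
    have hx' : bA.repr x 0 • a + bA.repr x 1 • h₁ + bA.repr x 2 • h₂ + bA.repr x 3 • b = x := by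
      refine Eq.trans ?_ hx
      simp only [bA, coe_basisOfLinearIndependentOfCardEqFinrank]
      rfl
    have h3 : l x = bA.repr x 3 := by
      conv_lhs => rw [← hx']
      simp [map_add, hla, hb, LinearMap.mem_ker.1 hh₁, LinearMap.mem_ker.1 hh₂]
    rw [proj_apply, h3]
    funext m
    have hm := congrFun hx' m
    simp at hm
    show x m - bA.repr x 3 * b m = (bA.repr x 1 * h₁ m + bA.repr x 2 * h₂ m) + bA.repr x 0 * a m
    linear_combination -hm
  let π := LinearMap.toMatrix' (proj l b)
  have hQ' : ∃ A B C₀ : k, subst π Q = C A * lform β ^ 2 + C B * (lform β * lform γ) + C C₀ * lform γ ^ 2 := by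
    refine ⟨polar F h₁ a, polar F (fun m => h₁ m + h₂ m) a - polar F h₁ a - polar F h₂ a, polar F h₂ a,
      MvPolynomial.funext fun x => ?_⟩
    rw [eval_subst_toMatrix, hQeval, hdec x, polar_shift hF (fun m => β x * h₁ m + γ x * h₂ m) a, polar_combination hF,
      ← hl, map_add, map_add, map_mul, map_mul, map_mul, map_mul, map_pow, map_pow, eval_C, eval_C, eval_C, eval_lform, eval_lform]
    have hz : l (fun m => β x * h₁ m + γ x * h₂ m) = 0 := by
      rw [show (fun m => β x * h₁ m + γ x * h₂ m) = β x • h₁ + γ x • h₂ from rfl]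
      simp [LinearMap.mem_ker.1 hh₁, LinearMap.mem_ker.1 hh₂]
    rw [hz, aeval_k, hFa]
    ring
  have hmod : MvPolynomial.map (algebraMap k (AlgebraicClosure k)) F - MvPolynomial.map (algebraMap k (AlgebraicClosure k)) (subst π F) ∈
      Ideal.span {MvPolynomial.map (algebraMap k (AlgebraicClosure k)) (lform l)} := by
    have h1 : (Ideal.Quotient.mkₐ k (Ideal.span {lform l})).comp (subst π) = Ideal.Quotient.mkₐ k (Ideal.span {lform l}) := by
      refine MvPolynomial.algHom_ext fun i => ?_
      refine Ideal.Quotient.eq.2 (Ideal.mem_span_singleton'.2 ⟨-C (b i), ?_⟩)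
      refine MvPolynomial.funext fun x => ?_
      rw [map_mul, map_neg, eval_C, eval_lform, map_sub]
      show -b i * l x = eval x (subst (LinearMap.toMatrix' (proj l b)) (X i)) - eval x (X i)
      rw [eval_subst_toMatrix, eval_X, eval_X, proj_apply]
      simp
      ring
    have h2 : F - subst π F ∈ Ideal.span {lform l} := Ideal.Quotient.eq.1 (AlgHom.congr_fun h1 F).symm
    rw [← map_sub, show Ideal.span {MvPolynomial.map (algebraMap k (AlgebraicClosure k)) (lform l)} =
      (Ideal.span {lform l}).map (MvPolynomial.map (algebraMap k (AlgebraicClosure k))) by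
        rw [Ideal.map_span, Set.image_singleton]]
    exact Ideal.mem_map_of_mem _ h2
  have hhomK : ∀ g : (Fin 4 → k) →ₗ[k] k,
      (MvPolynomial.map (algebraMap k (AlgebraicClosure k)) (lform g)).IsHomogeneous 1 := fun g => (isHomogeneous_lform g).map _
  have hQ0 : subst π Q ≠ 0 := by
    intro h0
    have hq : ∀ y, polar F (proj l b y) a = 0 := fun y => by
      rw [← hQeval, ← eval_subst_toMatrix, show subst (LinearMap.toMatrix' (proj l b)) Q = 0 from h0, map_zero]
    have hF' : subst π F = C (eval h₁ F) * lform β ^ 3 + C (polar F h₁ h₂) * (lform β ^ 2 * lform γ) +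
        C (polar F h₂ h₁) * (lform β * lform γ ^ 2) + C (eval h₂ F) * lform γ ^ 3 := by
      refine MvPolynomial.funext fun x => ?_
      have hz : l (fun m => β x * h₁ m + γ x * h₂ m) = 0 := by
        rw [show (fun m => β x * h₁ m + γ x * h₂ m) = β x • h₁ + γ x • h₂ from rfl]
        simp [LinearMap.mem_ker.1 hh₁, LinearMap.mem_ker.1 hh₂]
      have hz' : polar F (fun m => β x * h₁ m + γ x * h₂ m) a = 0 := by
        have := hq (fun m => β x * h₁ m + γ x * h₂ m)
        rwa [proj_apply, hz, zero_smul, sub_zero] at this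
      rw [eval_subst_toMatrix, hdec x, ← aeval_k, taylor hF (fun m => β x * h₁ m + γ x * h₂ m) a, ← hl, hz, hz',
        aeval_combination hF]
      simp [eval_lform, aeval_k, hFa]
    obtain ⟨L₁, L₂, L₃, e1, e2, e3, he⟩ := cubic_factor (algebraMap k (AlgebraicClosure k) (eval h₁ F))
      (algebraMap k (AlgebraicClosure k) (polar F h₁ h₂)) (algebraMap k (AlgebraicClosure k) (polar F h₂ h₁))
      (algebraMap k (AlgebraicClosure k) (eval h₂ F)) _ _ (hhomK β) (hhomK γ)
    refine hT ⟨L₁, L₂, L₃, e1, e2, e3, ?_⟩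
    rw [← he]
    convert hmod using 2
    rw [hF']
    simp
  have hno : ∀ Λ : MvPolynomial (Fin 4) k, Λ.IsHomogeneous 1 → subst π F ≠ subst π Q * Λ := by
    intro Λ hΛ h
    obtain ⟨A, B, C₀, hABC⟩ := hQ'
    obtain ⟨L₁, L₂, e1, e2, he⟩ := quadratic_factor (algebraMap k (AlgebraicClosure k) A)
      (algebraMap k (AlgebraicClosure k) B) (algebraMap k (AlgebraicClosure k) C₀) _ _ (hhomK β) (hhomK γ)
    refine hT ⟨L₁, L₂, _, e1, e2, hΛ.map (algebraMap k (AlgebraicClosure k)), ?_⟩
    rw [← he]
    convert hmod using 2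
    rw [h, hABC]
    simp
  obtain ⟨x, hx, hW⟩ := exists_phi_avoid hF l b (Or.inl hb) hla hQ0 hno Ws₀ hWs₀
  exact ⟨phi F a x, (eval_phi hF l hl hFa hx).1, (eval_phi hF l hl hFa hx).2,
    phi_polar hF l hl hFa hx, hW⟩

end CubicFive
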