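import Groth.Agent.CubicFiveLib.Avoid

/-!
# Five rational points in general position on a cubic surface, through a given point
-/

set_option autoImplicit false
set_option linter.unusedSectionVars false

universe u

open MvPolynomial Module CubicPfaff

namespace CubicFive

variable {k : Type u} [Field k] [CharZero k] [Infinite k] {F : MvPolynomial (Fin 4) k} {a : Fin 4 → k}
  (hF : F.IsHomogeneous 3)

local notation "KK" => AlgebraicClosure k
local notation "FK" => MvPolynomial.map (algebraMap k (AlgebraicClosure k)) F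
local notation "ι" => fun (v : Fin 4 → k) (m : Fin 4) => algebraMap k (AlgebraicClosure k) (v m)

theorem comap_line_le (U : Submodule KK (Fin 4 → KK)) (hU : finrank KK U = 1) :
    ∃ u : Fin 4 → k, ∀ x : Fin 4 → k, (ι x) ∈ U → x ∈ Submodule.span k (Set.range ![u]) := by
  by_cases h : ∃ u : Fin 4 → k, u ≠ 0 ∧ (ι u) ∈ U
  · obtain ⟨u, hu0, hu⟩ := h
    obtain ⟨i, hi⟩ := Function.ne_iff.1 hu0
    have hne : (⟨ι u, hu⟩ : U) ≠ 0 := fun h => by
      have := congrFun (congrArg Subtype.val h) i
      simp at this
      exact hi this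
    refine ⟨u, fun x hx => ?_⟩
    obtain ⟨c, hc⟩ := (finrank_eq_one_iff_of_nonzero' (⟨ι u, hu⟩ : U) hne).1 hU ⟨ι x, hx⟩
    have hcm : ∀ m, c * algebraMap k KK (u m) = algebraMap k KK (x m) := fun m => by
      simpa using congrFun (congrArg Subtype.val hc) m
    have hc' : c = algebraMap k KK (x i / u i) := by
      rw [map_div₀, eq_div_iff (by simpa using hi), hcm]
    refine (Submodule.mem_span_range_iff_exists_fun k).2 ⟨fun _ => x i / u i, funext fun m => ?_⟩
    have := hcm m
    rw [hc', ← map_mul] at this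
    simpa using (algebraMap k KK).injective this
  · push Not at h
    refine ⟨0, fun x hx => ?_⟩
    by_cases hx0 : x = 0
    · rw [hx0]; exact zero_mem _
    · exact absurd hx (h x hx0)

theorem isT_smul {K : Type u} [Field K] [CharZero K] {G : MvPolynomial (Fin 4) K} (hG : G.IsHomogeneous 3) {b : Fin 4 → K}
    (hT : IsT G b) {r : K} (hr : r ≠ 0) : IsT G (r • b) := by
  obtain ⟨L₁, L₂, L₃, h1, h2, h3, hmem⟩ := hT
  refine ⟨L₁, L₂, L₃, h1, h2, h3, ?_⟩
  have he : ∀ i, eval (r • b) (pderiv i G) = r ^ 2 * eval b (pderiv i G) := fun i => by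
    have := polar_scale_left hG b (Pi.single i 1) r
    simp only [polar, aeval_k, Pi.single_apply, ite_mul, one_mul, zero_mul, Finset.sum_ite_eq', Finset.mem_univ, if_true] at this
    exact this
  have : (∑ i : Fin 4, C (eval (r • b) (pderiv i G)) * X i) = C (r ^ 2) * ∑ i : Fin 4, C (eval b (pderiv i G)) * X i := by
    rw [Finset.mul_sum]
    exact Finset.sum_congr rfl fun i _ => by rw [he, C_mul, mul_assoc]
  rw [this, Ideal.span_singleton_mul_left_unit ((Ne.isUnit (pow_ne_zero 2 hr)).map C)]
  exact hmem

include hF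

/-- Rational points avoid finitely many proper subspaces. -/
theorem avoid (hirr : Irreducible FK)
    (hcone : ¬ ∃ v : Fin 4 → k, v ≠ 0 ∧ ∑ i : Fin 4, v i • MvPolynomial.pderiv i F = 0)
    (ha : a ≠ 0) (hFa : eval a F = 0) (l : (Fin 4 → k) →ₗ[k] k) (hl : ∀ x, l x = polar F a x)
    (hT : ¬ IsT FK (ι a))
    (Ws : List (Submodule k (Fin 4 → k))) (hWs : ∀ W ∈ Ws, finrank k W ≤ 3) :
    ∃ P, eval P F = 0 ∧ ∀ W ∈ Ws, P ∉ W := by
  classical
  by_cases hl0 : l = 0
  · have hQ : (∑ i, C (a i) * pderiv i F) ≠ 0 := fun h => hcone ⟨a, ha, by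
      rw [← h]; simp [MvPolynomial.smul_eq_C_mul]⟩
    have hno : ∀ Λ : MvPolynomial (Fin 4) k, Λ.IsHomogeneous 1 →
        subst (LinearMap.toMatrix' (proj l 0)) F ≠ subst (LinearMap.toMatrix' (proj l 0)) (∑ i, C (a i) * pderiv i F) * Λ := by
      subst hl0
      intro Λ hΛ h
      rw [subst_id, subst_id] at h
      rw [h, map_mul] at hirr
      exact not_irreducible_mul (m := 1) (n := 0) ((isHomogeneous_polarPoly hF).map _) (hΛ.map _) hirr
    obtain ⟨x, hx, hW⟩ := exists_phi_avoid hF l 0 (Or.inr hl0) (by rw [hl0]; rfl)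
      (by rw [hl0, subst_id]; exact hQ) hno Ws (fun W hW hle => by
        have := Submodule.finrank_mono hle
        rw [hl0, LinearMap.ker_zero, finrank_top, Module.finrank_fin_fun] at this
        have := hWs W hW
        omega)
    exact ⟨phi F a x, (eval_phi hF l hl hFa hx).1, hW⟩
  · have hker : ∀ g : (Fin 4 → k) →ₗ[k] k, g ≠ 0 → finrank k (LinearMap.ker g) = 3 := fun g hg => by
      have := Module.Dual.finrank_ker_add_one_of_ne_zero hg
      rw [Module.finrank_fin_fun] at this
      omega
    let L : (Fin 4 → KK) →ₗ[KK] KK :=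
      ∑ i, (eval (ι a) (pderiv i FK)) • LinearMap.proj i
    have hL : ∀ x, L x = polar FK (ι a) x := fun x => by
      simp [L, polar, aeval_k, mul_comm]
    have hLι : ∀ x, L (ι x) = algebraMap k KK (l x) := fun x => by
      rw [hl, polar_eq_sum]
      simp [L, eval_pderiv_map, Algebra.smul_def]
    have hL0 : L ≠ 0 := fun h => hl0 (LinearMap.ext fun x => by
      apply (algebraMap k KK).injective
      rw [← hLι, h]; simp)
    have ha' : (ι a) ≠ 0 := fun h => ha (funext fun m => by simpa using congrFun h m)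
    have hFι : ∀ x : Fin 4 → k, eval x F = 0 → eval (ι x) FK = 0 := fun x hx => by
      rw [eval_map]
      have := MvPolynomial.eval₂_comp (algebraMap k KK) x F
      rw [hx, map_zero] at this
      exact this.symm
    have hfin := finite_TPoints (hF.map (algebraMap k KK)) ha' (hFι a hFa) L hL hL0 hT
    choose uf huf using fun U : Submodule KK (Fin 4 → KK) => fun h : finrank KK U = 1 => comap_line_le U h
    let bad : List (Submodule k (Fin 4 → k)) :=
      hfin.toFinset.toList.map fun U : Submodule KK (Fin 4 → KK) => if h : finrank KK U = 1 then Submodule.span k (Set.range ![uf U h]) else ⊥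
    let Ws' := Submodule.span k (Set.range ![a]) :: (bad ++ Ws.filter (fun W => decide (¬ LinearMap.ker l ≤ W)))
    have hWs' : ∀ W ∈ Ws', ¬ LinearMap.ker l ≤ W := by
      intro W hW
      simp only [Ws', bad, List.mem_cons, List.mem_append, List.mem_map, List.mem_filter, decide_eq_true_eq] at hW
      rcases hW with rfl | ⟨U, -, rfl⟩ | hW
      · exact not_le_span _ _ (by rw [hker l hl0]; omega)
      · split_ifs with h
        · exact not_le_span _ _ (by rw [hker l hl0]; omega)
        · intro hle
          have := Submodule.finrank_mono hle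
          rw [hker l hl0, finrank_bot] at this
          omega
      · exact hW.2
    obtain ⟨b, hbF, hbl, hbq, hbW⟩ := avoid_smooth hF ha hFa l hl hl0 hT Ws' hWs'
    have hba : b ∉ Submodule.span k (Set.range ![a]) := hbW _ (List.mem_cons_self ..)
    have hb0 : b ≠ 0 := fun h => hba (by rw [h]; exact zero_mem _)
    have hqa : polar F b a ≠ 0 := fun h => hba (by
      have := hbq h
      simpa using this)
    have hbT : ¬ IsT FK (ι b) := by
      intro hbT
      have hιb : (ι b) ≠ 0 := fun h => hb0 (funext fun m => by simpa using congrFun h m)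
      let U := Submodule.span KK ({ι b} : Set (Fin 4 → KK))
      have hU1 : finrank KK U = 1 := finrank_span_singleton hιb
      have hUmem : U ∈ hfin.toFinset := by
        rw [Set.Finite.mem_toFinset]
        refine ⟨hU1, ?_, fun c hc hc0 => ?_⟩
        · rw [Submodule.span_le, Set.singleton_subset_iff, SetLike.mem_coe, LinearMap.mem_ker, hLι, hbl, map_zero]
        · obtain ⟨r, rfl⟩ := Submodule.mem_span_singleton.1 hc
          refine ⟨?_, isT_smul (hF.map _) hbT (fun h => hc0 (by rw [h, zero_smul]))⟩
          rw [← aeval_k, show (r • ι b) = fun m => r * ι b m from rfl, aeval_scale (hF.map _), aeval_k, hFι b hbF, mul_zero]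
      have : b ∈ Submodule.span k (Set.range ![uf U hU1]) := huf U hU1 b (Submodule.mem_span_singleton_self _)
      refine hbW _ ?_ this
      simp only [Ws', bad, List.mem_cons, List.mem_append, List.mem_map, Finset.mem_toList]
      exact Or.inr (Or.inl ⟨U, hUmem, by rw [dif_pos hU1]⟩)
    let lb : (Fin 4 → k) →ₗ[k] k := ∑ i, (eval b (pderiv i F)) • LinearMap.proj i
    have hlb : ∀ x, lb x = polar F b x := fun x => by simp [lb, polar, aeval_k, mul_comm]
    have hlb0 : lb ≠ 0 := fun h => hqa (by rw [← hlb, h]; rfl)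
    have hlbb : lb b = 0 := by rw [hlb, polar_self hF, aeval_k, hbF, mul_zero]
    obtain ⟨P, hP, -, -, hPW⟩ := avoid_smooth hF hb0 hbF lb hlb hlb0 hbT Ws (fun W hW hle => by
      have he : LinearMap.ker lb = W := Submodule.eq_of_le_of_finrank_le hle (by rw [hker lb hlb0]; exact hWs W hW)
      by_cases hlW : LinearMap.ker l ≤ W
      · have hla : a ∈ LinearMap.ker l := by
          rw [LinearMap.mem_ker, hl, polar_self hF, aeval_k, hFa, mul_zero]
        have := hlW hla
        rw [← he, LinearMap.mem_ker, hlb] at this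
        exact hqa this
      · refine hbW W ?_ (hle hlbb)
        simp only [Ws', List.mem_cons, List.mem_append, List.mem_filter, decide_eq_true_eq]
        exact Or.inr (Or.inr ⟨hW, hlW⟩))
    exact ⟨P, hP, hPW⟩

/-- Five rational points in general position, one of them given. -/
theorem exists_five (hirr : Irreducible FK)
    (hcone : ¬ ∃ v : Fin 4 → k, v ≠ 0 ∧ ∑ i : Fin 4, v i • MvPolynomial.pderiv i F = 0)
    (ha : a ≠ 0) (hFa : eval a F = 0) (l : (Fin 4 → k) →ₗ[k] k) (hl : ∀ x, l x = polar F a x)
    (hT : ¬ IsT FK (ι a)) :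
    ∃ p : Fin 5 → (Fin 4 → k), p 0 = a ∧ (∀ j : Fin 5, eval (p j) F = 0) ∧
      ∀ j : Fin 5, LinearIndependent k (fun i : Fin 4 => p (j.succAbove i)) := by
  have hav := avoid hF hirr hcone ha hFa l hl hT
  have hrk : ∀ (n : ℕ) (v : Fin n → Fin 4 → k), finrank k (Submodule.span k (Set.range v)) ≤ n := fun n v => by
    simpa [Set.finrank] using finrank_range_le_card (R := k) v
  have grow : ∀ n : ℕ, n ≤ 3 → ∃ w : Fin (n + 1) → Fin 4 → k, LinearIndependent k w ∧ w 0 = a ∧ ∀ i, eval (w i) F = 0 := by
    intro n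
    induction n with
    | zero =>
      exact fun _ => ⟨![a], (show LinearIndependent k (![a] : Fin 1 → Fin 4 → k) from linearIndependent_unique_iff.2 (by simpa using ha)), rfl, fun i => by fin_cases i; simpa using hFa⟩
    | succ n ih =>
      intro hn
      obtain ⟨w, hw, hw0, hwF⟩ := ih (by omega)
      obtain ⟨P, hP, hPW⟩ := hav [Submodule.span k (Set.range w)] (fun W hW => by
        rw [List.mem_singleton.1 hW]; exact (hrk _ w).trans (by omega))
      refine ⟨Fin.snoc w P, linearIndependent_finSnoc.2 ⟨hw, hPW _ (by simp)⟩, ?_, fun i => ?_⟩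
      · rw [show (0 : Fin (n + 1 + 1)) = Fin.castSucc 0 from rfl, Fin.snoc_castSucc, hw0]
      · induction i using Fin.lastCases with
        | last => simpa using hP
        | cast j => simpa using hwF j
  obtain ⟨w, hw, hw0, hwF⟩ := grow 3 le_rfl
  obtain ⟨R, hR, hRW⟩ := hav (List.ofFn fun i : Fin 4 => Submodule.span k (Set.range (w ∘ i.succAbove))) (fun W hW => by
    obtain ⟨i, rfl⟩ := List.mem_ofFn.1 hW
    exact hrk _ _)
  refine ⟨Fin.snoc w R, ?_, fun j => ?_, fun j => ?_⟩
  · rw [show (0 : Fin 5) = Fin.castSucc 0 from rfl, Fin.snoc_castSucc, hw0]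
  · induction j using Fin.lastCases with
    | last => rw [Fin.snoc_last]; exact hR
    | cast j => rw [Fin.snoc_castSucc]; exact hwF j
  · induction j using Fin.lastCases with
    | last =>
      convert hw using 1
      funext i
      rw [Fin.succAbove_last, Fin.snoc_castSucc]
    | cast j =>
      have hj : LinearIndependent k (Fin.snoc (w ∘ j.succAbove) R : Fin 4 → Fin 4 → k) :=
        linearIndependent_finSnoc.2 ⟨hw.comp _ Fin.succAbove_right_injective, hRW _ (List.mem_ofFn.2 ⟨j, rfl⟩)⟩
      convert hj using 1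
      funext i
      induction i using Fin.lastCases with
      | last => rw [Fin.succAbove_of_le_castSucc _ _ (Fin.castSucc_le_castSucc_iff.2 (Fin.le_last _)), Fin.succ_last, Fin.snoc_last, Fin.snoc_last]
      | cast i => rw [Fin.castSucc_succAbove_castSucc, Fin.snoc_castSucc, Fin.snoc_castSucc, Function.comp_apply]

end CubicFive
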